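import Cfsg.Agent.H589.BD.Core
import Cfsg.Agent.Characters.Brauer

/-!
# S4932: existence of characters in the principal block (helper589)

* `sum_regPart_indFun` : the sum over the `p`-regular elements of an induced function;
* `exists_of_sum`, `exists_small`, `exists_over`;
* `Tame.of_equiv`.
-/

set_option autoImplicit false
set_option linter.unusedSectionVars false
set_option linter.style.haveILetI false

open Cfsg

namespace Cfsg.Agent.H589.BD

open Cfsg.Agent.H686.CharKit Cfsg.Agent.H684.BlockTools Cfsg.Agent.Blocks.Blau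

universe u v

variable {p : ℕ} [Fact p.Prime]

section

variable {G : Type u} [Group G]

omit [Fact p.Prime] in
theorem sum_regPart_indFun [Fintype G] (H : Subgroup G) [Fintype H] (θ : H → ℂ) :
    ∑ g : G, regPart p (indFun H θ) g = (H.index : ℂ) * ∑ h : H, regPart p θ h := by
  classical
  have h1 : ∀ g : G, regPart p (indFun H θ) g =
      (Nat.card H : ℂ)⁻¹ * ∑ x : G, (if p ∣ orderOf (x⁻¹ * g * x) then 0 else extendByZero H θ (x⁻¹ * g * x)) := by
    intro g
    have hord : ∀ x : G, orderOf (x⁻¹ * g * x) = orderOf g := fun x => by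
      have := (MulAut.conj x⁻¹).orderOf_eq g
      rw [← this]
      congr 1
      simp
    by_cases hg : p ∣ orderOf g
    · rw [regPart_of_dvd hg]
      rw [Finset.sum_eq_zero, mul_zero]
      intro x _
      rw [hord, if_pos hg]
    · rw [regPart_of_not_dvd hg, Characters.Core.indFun_apply]
      congr 1
      refine Finset.sum_congr rfl fun x _ => ?_
      rw [hord, if_neg hg]
  have h2 : ∀ x : G, ∑ g : G, (if p ∣ orderOf (x⁻¹ * g * x) then 0 else extendByZero H θ (x⁻¹ * g * x)) =
      ∑ g : G, if p ∣ orderOf g then 0 else extendByZero H θ g := by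
    intro x
    refine Fintype.sum_equiv (MulAut.conj x⁻¹).toEquiv _ _ fun g => ?_
    have h3 : (MulAut.conj x⁻¹).toEquiv g = x⁻¹ * g * x := by simp
    rw [h3]
  have h3 : ∑ g : G, (if p ∣ orderOf g then 0 else extendByZero H θ g) = ∑ h : H, regPart p θ h := by
    symm
    refine Fintype.sum_of_injective (Subtype.val : H → G) Subtype.val_injective _ _ ?_ ?_
    · intro g hg
      rw [Characters.Core.extendByZero_of_notMem H θ (fun h => hg ⟨⟨g, h⟩, rfl⟩), ite_self]
    · intro h
      by_cases hh : p ∣ orderOf h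
      · rw [regPart_of_dvd hh, if_pos (by rwa [Subgroup.orderOf_coe])]
      · rw [regPart_of_not_dvd hh, if_neg (by rwa [Subgroup.orderOf_coe]),
          Characters.Core.extendByZero_of_mem H θ h.2]
  rw [Finset.sum_congr rfl fun g _ => h1 g, ← Finset.mul_sum, Finset.sum_comm,
    Finset.sum_congr rfl fun x _ => h2 x, h3, Finset.sum_const, Finset.card_univ, nsmul_eq_mul,
    ← Nat.card_eq_fintype_card, ← H.card_mul_index]
  have : (Nat.card H : ℂ) ≠ 0 := Characters.Core.card_ne_zero_complex
  push_cast
  field_simp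

omit [Fact p.Prime] in
theorem regPart_sum {ι : Type*} (s : Finset ι) (m : ι → ℕ) (f : ι → G → ℂ) (g : G) :
    regPart p (∑ i ∈ s, m i • f i) g = ∑ i ∈ s, (m i : ℂ) * regPart p (f i) g := by
  by_cases hg : p ∣ orderOf g
  · simp [regPart_of_dvd hg]
  · simp [regPart_of_not_dvd hg]

/-- Constituents of a class function with nonzero sum over the `p`-regular elements. -/
theorem exists_of_sum [Fintype G] {ψ : G → ℂ} (hψ : IsCharacter G ψ)
    (h : ∑ g : G, Blocks.Blau.regPart p ψ g ≠ 0) :
    ∃ χ : IrrCharacter G, InB0 p χ ∧ classInner ψ (χ : G → ℂ) ≠ 0 := by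
  classical
  have : Finite (IrrCharacter G) := Characters.Core.finite_irr
  have := Fintype.ofFinite (IrrCharacter G)
  obtain ⟨m, hm⟩ := Characters.Core.exists_nat_comb hψ
  rw [hm, Finset.sum_congr rfl fun g _ => regPart_sum _ _ _ g, Finset.sum_comm] at h
  obtain ⟨χ, -, h1⟩ := Finset.exists_ne_zero_of_sum_ne_zero h
  rw [← Finset.mul_sum] at h1
  refine ⟨χ, (InB0.iff χ).2 (right_ne_zero_of_mul h1), ?_⟩
  rw [hm, Characters.Core.classInner_sum_nsmul_irr]
  exact left_ne_zero_of_mul h1

omit [Fact p.Prime] in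
theorem indFun_one [Fintype G] (H : Subgroup G) (θ : H → ℂ) : indFun H θ 1 = (H.index : ℂ) * θ 1 := by
  rw [Characters.Core.indFun_apply]
  have h1 : ∀ x : G, extendByZero H θ (x⁻¹ * 1 * x) = θ 1 := by
    intro x
    have h2 : x⁻¹ * 1 * x = 1 := by group
    rw [h2]
    exact Characters.Core.extendByZero_of_mem H θ H.one_mem
  rw [Finset.sum_congr rfl fun x _ => h1 x, Finset.sum_const, Finset.card_univ, nsmul_eq_mul,
    ← Nat.card_eq_fintype_card, ← H.card_mul_index]
  have : (Nat.card H : ℂ) ≠ 0 := Characters.Core.card_ne_zero_complex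
  push_cast
  field_simp

theorem sum_regPart_triv [Fintype G] :
    ∑ g : G, regPart p ((triv G : IrrCharacter G) : G → ℂ) g = (Nat.card {x : G // ¬ p ∣ orderOf x} : ℂ) := by
  have := H893.Sd.pair_one_one (G := G) p
  rw [H893.Sd.pair_one] at this
  exact this

/-- A nontrivial character of `B₀` in `1_H^G` if `p ∣ |G : H|`. -/
theorem exists_small [Finite G] (H : Subgroup G) (h : p ∣ H.index) :
    ∃ χ : IrrCharacter G, InB0 p χ ∧ NT χ ∧ charDegree (χ : G → ℂ) < H.index := by
  classical
  have := Fintype.ofFinite G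
  have := Fintype.ofFinite H
  have : Finite (IrrCharacter G) := Characters.Core.finite_irr
  have := Fintype.ofFinite (IrrCharacter G)
  let ψ : G → ℂ := indFun H ((triv H : IrrCharacter H) : H → ℂ)
  have hψ : IsCharacter G ψ :=
    Characters.Brauer.isCharacter_indFun H (Characters.Core.isIrr_isCharacter (triv H).2)
  obtain ⟨m, hm⟩ := Characters.Core.exists_nat_comb hψ
  have hm1 : m (triv G) = 1 := by
    have h1 := Characters.Brauer.classInner_indFun H inferInstance ((triv H : IrrCharacter H) : H → ℂ)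
      ((triv G : IrrCharacter G) : G → ℂ) (Characters.Core.isIrr_isClassFunction (triv G).2)
    have h2 : (fun h : H => ((triv G : IrrCharacter G) : G → ℂ) h) = ((triv H : IrrCharacter H) : H → ℂ) := rfl
    rw [h2, Characters.Core.classInner_irr_self (triv H).2] at h1
    have h3 : classInner ψ ((triv G : IrrCharacter G) : G → ℂ) = 1 := h1
    rw [hm, Characters.Core.classInner_sum_nsmul_irr] at h3
    exact_mod_cast h3
  -- the degree
  have hdeg : ∑ χ : IrrCharacter G, m χ * charDegree (χ : G → ℂ) = H.index := by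
    have h1 : ψ 1 = (H.index : ℂ) := by
      have := indFun_one H ((triv H : IrrCharacter H) : H → ℂ)
      rw [show ((triv H : IrrCharacter H) : H → ℂ) 1 = 1 from rfl, mul_one] at this
      exact this
    rw [hm, Finset.sum_apply] at h1
    have h2 : ((∑ χ : IrrCharacter G, m χ * charDegree (χ : G → ℂ) : ℕ) : ℂ) = (H.index : ℂ) := by
      rw [← h1]
      push_cast
      refine Finset.sum_congr rfl fun χ _ => ?_
      rw [charDegree_irr, Pi.smul_apply, nsmul_eq_mul]
    exact_mod_cast h2
  -- the sum over the regular elements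
  have hreg : ∑ g : G, regPart p ψ g = (H.index : ℂ) * (Nat.card {x : H // ¬ p ∣ orderOf x} : ℂ) := by
    have := sum_regPart_indFun (p := p) H ((triv H : IrrCharacter H) : H → ℂ)
    rw [sum_regPart_triv] at this
    exact this
  by_contra hcon
  push Not at hcon
  have hz : ∀ χ : IrrCharacter G, χ ≠ triv G → (m χ : ℂ) * ∑ g : G, regPart p (χ : G → ℂ) g = 0 := by
    intro χ hχ
    by_contra h1
    have h2 : InB0 p χ := (InB0.iff χ).2 (right_ne_zero_of_mul h1)
    have h3 := hcon χ h2 (nt_of_ne_triv hχ)
    have h4 : m χ ≠ 0 := by exact_mod_cast left_ne_zero_of_mul h1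
    have h5 : m (triv G) * charDegree ((triv G : IrrCharacter G) : G → ℂ) + m χ * charDegree (χ : G → ℂ) ≤
        H.index := by
      rw [← hdeg, ← Finset.sum_pair (f := fun ξ : IrrCharacter G => m ξ * charDegree (ξ : G → ℂ)) hχ.symm]
      exact Finset.sum_le_sum_of_subset (Finset.subset_univ _)
    have h6 : charDegree (χ : G → ℂ) ≤ m χ * charDegree (χ : G → ℂ) :=
      Nat.le_mul_of_pos_left _ (Nat.pos_of_ne_zero h4)
    have h7 : 0 < charDegree ((triv G : IrrCharacter G) : G → ℂ) := charDegree_pos _
    rw [hm1, one_mul] at h5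
    omega
  rw [hm, Finset.sum_congr rfl fun g _ => regPart_sum _ _ _ g, Finset.sum_comm] at hreg
  rw [Finset.sum_congr rfl fun χ _ => (Finset.mul_sum _ _ _).symm,
    Finset.sum_eq_single (triv G) (fun χ _ hχ => hz χ hχ) (fun h => absurd (Finset.mem_univ _) h), hm1,
    Nat.cast_one, one_mul, sum_regPart_triv] at hreg
  have h8 : Nat.card {x : G // ¬ p ∣ orderOf x} = H.index * Nat.card {x : H // ¬ p ∣ orderOf x} := by
    exact_mod_cast hreg
  exact Blocks.RegularCount.not_dvd_card_regular (G := G) (h8 ▸ h.mul_right _)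

/-- A character of `B₀(G)` over a character of `B₀(H)`. -/
theorem exists_over [Finite G] {H : Type v} [Group H] [Finite H] (f : H →* G)
    (hf : Function.Injective f) (φ : IrrCharacter H) (h : InB0 p φ) :
    ∃ χ : IrrCharacter G, InB0 p χ ∧ charDegree (φ : H → ℂ) ≤ charDegree (χ : G → ℂ) := by
  classical
  have := Fintype.ofFinite G
  have := Fintype.ofFinite f.range
  let e : H ≃* f.range := MonoidHom.ofInjective hf
  let θ : IrrCharacter f.range := tr e.symm φ
  have hθ : InB0 p θ := h.tr e.symm
  rw [InB0.iff] at hθ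
  have hch : IsCharacter G (indFun f.range (θ : f.range → ℂ)) :=
    Characters.Brauer.isCharacter_indFun _ (Characters.Core.isIrr_isCharacter θ.2)
  obtain ⟨χ, h1, h2⟩ := exists_of_sum (p := p) hch (by
    rw [sum_regPart_indFun]
    exact mul_ne_zero (Nat.cast_ne_zero.2 Subgroup.index_ne_zero_of_finite) hθ)
  refine ⟨χ, h1, ?_⟩
  rw [Characters.Brauer.classInner_indFun _ inferInstance _ _ (Characters.Core.isIrr_isClassFunction χ.2)] at h2
  rw [← charDegree_tr e.symm φ]
  have : Finite (IrrCharacter f.range) := Characters.Core.finite_irr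
  have := Fintype.ofFinite (IrrCharacter f.range)
  have hres : IsCharacter f.range (fun x : f.range => (χ : G → ℂ) x) :=
    Characters.Brauer.isCharacter_restrict (Characters.Core.isIrr_isCharacter χ.2) _
  obtain ⟨m, hm⟩ := Characters.Core.exists_nat_comb hres
  have h3 : m θ ≠ 0 := by
    intro h4
    apply h2
    rw [hm, ← Characters.Core.classInner_conj_symm, Characters.Core.classInner_sum_nsmul_irr, h4]
    simp
  have h4 : ∑ ξ : IrrCharacter f.range, m ξ * charDegree (ξ : f.range → ℂ) = charDegree (χ : G → ℂ) := by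
    have h5 := congrFun hm 1
    rw [Finset.sum_apply] at h5
    have h6 : ((∑ ξ : IrrCharacter f.range, m ξ * charDegree (ξ : f.range → ℂ) : ℕ) : ℂ) =
        (charDegree (χ : G → ℂ) : ℂ) := by
      rw [charDegree_irr χ]
      refine Eq.trans ?_ h5.symm
      push_cast
      refine Finset.sum_congr rfl fun ξ _ => ?_
      rw [charDegree_irr, Pi.smul_apply, nsmul_eq_mul]
    exact_mod_cast h6
  calc charDegree (θ : f.range → ℂ) ≤ m θ * charDegree (θ : f.range → ℂ) :=
        Nat.le_mul_of_pos_left _ (Nat.pos_of_ne_zero h3)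
    _ ≤ ∑ ξ : IrrCharacter f.range, m ξ * charDegree (ξ : f.range → ℂ) :=
        Finset.single_le_sum (f := fun ξ : IrrCharacter f.range => m ξ * charDegree (ξ : f.range → ℂ))
          (fun _ _ => Nat.zero_le _) (Finset.mem_univ θ)
    _ = charDegree (χ : G → ℂ) := h4

end

variable {S : Type u} [Group S]

omit [Fact p.Prime] in
theorem Comp.of_equiv {T : Type u} [Group T] (e : S ≃* T) {G : Type u} [Group G] {L Q : Subgroup G}
    (h : Comp p T L Q) : Comp p S L Q := by
  obtain ⟨f, hf, hk⟩ := h.iso
  exact ⟨h.normL, h.perf, h.normQ, h.le, h.pgrp, h.idx, h.metab, e.symm.toMonoidHom.comp f,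
    e.symm.surjective.comp hf, fun x => by
      rw [← hk x]
      exact (map_eq_one_iff e.symm.toMonoidHom e.symm.injective)⟩

omit [Fact p.Prime] in
theorem Tame.of_equiv {T : Type u} [Group T] (e : S ≃* T) (h : Tame p S) : Tame p T := by
  intro G _ _ L Q hc
  exact h G L Q (hc.of_equiv e)

end Cfsg.Agent.H589.BD
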