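import Cfsg.Prelude.Def_Blocks
import Cfsg.Prelude.Def_KGroupFacts
import Mathlib.GroupTheory.Sylow
import Mathlib.GroupTheory.Solvable
import Mathlib.GroupTheory.PGroup
import Mathlib.Data.Set.Card

/-!
# S4932 and S4953: degrees in the principal block and the derived length (interface, helper589)

* `cd0 M G` : the set of degrees of the characters in the principal block;
* `Kill p S` : `S` simple; every group `A` with a normal subgroup `N ≅ S`, `C_A(N) = 1`, has at least four
  degrees in the principal `p`-block;
* `Tame p S` : in every group `G` with a normal quasisimple `L` over `S` such that `C_G(L)` has a normal Sylow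
  `p`-subgroup `Q` with abelian derived group, the Sylow `p`-subgroups of `G` satisfy `P''' = 1`;
* `SizeOK S` : `|Out S| < χ(1)` for all nontrivial irreducible characters `χ` of `S`.

The theorem is reduced to `SizeOK S ∧ (Kill p S ∨ Tame p S)` for all nonabelian simple `S`, `p ∣ #S`.
-/

set_option autoImplicit false

namespace Cfsg.Agent.H589.BD

open Cfsg

universe u

/-- The degrees of the irreducible characters in the principal block. -/
def cd0 (M : Ideal AlgInt) (G : Type u) [Group G] : Set ℕ :=
  {d | ∃ χ : IrrCharacter G, χ ∈ principalBlock M G ∧ charDegree (χ : G → ℂ) = d}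

/-- `N` is a normal subgroup of `A` isomorphic to `S` with trivial centralizer. -/
structure Over (S : Type u) [Group S] {A : Type u} [Group A] (N : Subgroup A) : Prop where
  normal : N.Normal
  iso : Nonempty (↥N ≃* S)
  cent : Subgroup.centralizer (N : Set A) = ⊥

/-- Every almost simple group over `S` has at least four degrees in the principal `p`-block. -/
def Kill (p : ℕ) (S : Type u) [Group S] : Prop :=
  ∀ (A : Type u) [Group A] [Finite A] (N : Subgroup A), Over S N →
    ∀ M : Ideal AlgInt, IsPModular p M → 3 < (cd0 M A).ncard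

/-- `L` is a perfect normal subgroup of `G`, `L/(L ∩ C_G(L)) ≅ S` with `L ∩ C_G(L)` a `p`-group, `Q` is a normal
Sylow `p`-subgroup of `C_G(L)` and `Q'` is abelian. -/
structure Comp (p : ℕ) (S : Type u) [Group S] {G : Type u} [Group G] (L Q : Subgroup G) : Prop where
  normL : L.Normal
  perf : ⁅L, L⁆ = L
  normQ : Q.Normal
  le : Q ≤ Subgroup.centralizer (L : Set G)
  pgrp : IsPGroup p Q
  idx : ¬ p ∣ Q.relIndex (Subgroup.centralizer (L : Set G))
  metab : ⁅(⁅Q, Q⁆ : Subgroup G), (⁅Q, Q⁆ : Subgroup G)⁆ = ⊥
  iso : ∃ f : ↥L →* S, Function.Surjective f ∧ ∀ x : ↥L, f x = 1 ↔ (x : G) ∈ Q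

/-- `P''' = 1` in all groups with a component over `S` as above. -/
def Tame (p : ℕ) (S : Type u) [Group S] : Prop :=
  ∀ (G : Type u) [Group G] [Finite G] (L Q : Subgroup G), Comp p S L Q →
    ∀ P : Sylow p G, derivedSeries ↥(P : Subgroup G) 3 = ⊥

/-- The nontrivial characters of `S` have degree greater than `|Out S|`. -/
def SizeOK (S : Type u) [Group S] : Prop :=
  ∀ χ : IrrCharacter S, (∃ g : S, (χ : S → ℂ) g ≠ 1) → Nat.card (Out S) < charDegree (χ : S → ℂ)

/-- The row of `S` at the prime `p`. -/
def Row (p : ℕ) (S : Type u) [Group S] : Prop := Kill p S ∨ Tame p S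

/-- All rows. -/
def Rows : Prop := ∀ (S : Type u) [Group S] [Finite S] [IsSimpleGroup S], ¬ IsMulCommutative S →
  SizeOK S ∧ ∀ p : ℕ, p.Prime → p ∣ Nat.card S → Row p S

end Cfsg.Agent.H589.BD
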